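import Cfsg.Agent.Comp.J2.Chk0

set_option autoImplicit false
set_option maxRecDepth 100000
set_option Elab.async false

namespace Cfsg.Agent.Comp.J2

theorem hs : ∀ j, j < J.N' → J.slpAt j = true := (range_step (lo := 0) 18 range_start s0)

theorem chain3 {Γ X : Type*} [Group Γ] [MulAction Γ X] {T : Lst X J.n} {gen : ℕ → Γ} {A : Subgroup Γ} (h : J.Model T gen A) : ChainOK h.M J.E (J.el gen) [] := trivial

theorem chain2 {Γ X : Type*} [Group Γ] [MulAction Γ X] {T : Lst X J.n} {gen : ℕ → Γ} {A : Subgroup Γ} (h : J.Model T gen A) : ChainOK h.M J.E (J.el gen) [L2] :=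
  h.chain_cons hs (chain3 h) l2 (range_step (lo := 0) 12 range_start q2_0)

theorem chain1 {Γ X : Type*} [Group Γ] [MulAction Γ X] {T : Lst X J.n} {gen : ℕ → Γ} {A : Subgroup Γ} (h : J.Model T gen A) : ChainOK h.M J.E (J.el gen) [L1, L2] :=
  h.chain_cons hs (chain2 h) l1 (range_step (lo := 0) 160 range_start q1_0)

theorem chain0 {Γ X : Type*} [Group Γ] [MulAction Γ X] {T : Lst X J.n} {gen : ℕ → Γ} {A : Subgroup Γ} (h : J.Model T gen A) : ChainOK h.M J.E (J.el gen) [L0, L1, L2] :=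
  h.chain_cons hs (chain1 h) l0 (range_step (lo := 0) 315 range_start q0_0)

theorem GpL_eq {Γ : Type*} [Group Γ] (gen : ℕ → Γ) : GpL (J.el gen) [L0, L1, L2] = J.G gen := Job.GpL_top rfl rfl

theorem card {Γ X : Type*} [Group Γ] [MulAction Γ X] {T : Lst X J.n} {gen : ℕ → Γ} {A : Subgroup Γ} (h : J.Model T gen A) : Nat.card (J.G gen) = 604800 := by
  rw [← GpL_eq, (chain0 h).card]; rfl

theorem finite {Γ X : Type*} [Group Γ] [MulAction Γ X] {T : Lst X J.n} {gen : ℕ → Γ} {A : Subgroup Γ} (h : J.Model T gen A) : Finite (J.G gen) := by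
  rw [← GpL_eq]; exact (chain0 h).finite

theorem ctx {Γ X : Type*} [Group Γ] [MulAction Γ X] {T : Lst X J.n} {gen : ℕ → Γ} {A : Subgroup Γ} (h : J.Model T gen A) : Ctx h.M J.E (J.el gen) [L0, L1, L2] R :=
  h.ctx hs (chain0 h) rfl rfl rp

theorem cov195 {Γ X : Type*} [Group Γ] [MulAction Γ X] {T : Lst X J.n} {gen : ℕ → Γ} {A : Subgroup Γ} (h : J.Model T gen A) : Cov h.M (J.el gen) [L0, L1, L2] R [nat_lit 2892, nat_lit 3744] :=
  cov_full (ctx h) n195

theorem cov194 {Γ X : Type*} [Group Γ] [MulAction Γ X] {T : Lst X J.n} {gen : ℕ → Γ} {A : Subgroup Γ} (h : J.Model T gen A) : Cov h.M (J.el gen) [L0, L1, L2] R [nat_lit 2892, nat_lit 3696] :=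
  cov_full (ctx h) n194

theorem cov193 {Γ X : Type*} [Group Γ] [MulAction Γ X] {T : Lst X J.n} {gen : ℕ → Γ} {A : Subgroup Γ} (h : J.Model T gen A) : Cov h.M (J.el gen) [L0, L1, L2] R [nat_lit 2892, nat_lit 2304] :=
  cov_full (ctx h) n193

theorem cov192 {Γ X : Type*} [Group Γ] [MulAction Γ X] {T : Lst X J.n} {gen : ℕ → Γ} {A : Subgroup Γ} (h : J.Model T gen A) : Cov h.M (J.el gen) [L0, L1, L2] R [nat_lit 2892, nat_lit 2472] :=
  cov_full (ctx h) n192

theorem cov191 {Γ X : Type*} [Group Γ] [MulAction Γ X] {T : Lst X J.n} {gen : ℕ → Γ} {A : Subgroup Γ} (h : J.Model T gen A) : Cov h.M (J.el gen) [L0, L1, L2] R [nat_lit 2892, nat_lit 1692] :=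
  cov_full (ctx h) n191

theorem cov190 {Γ X : Type*} [Group Γ] [MulAction Γ X] {T : Lst X J.n} {gen : ℕ → Γ} {A : Subgroup Γ} (h : J.Model T gen A) : Cov h.M (J.el gen) [L0, L1, L2] R [nat_lit 2892, nat_lit 1548] :=
  cov_full (ctx h) n190

theorem cov189 {Γ X : Type*} [Group Γ] [MulAction Γ X] {T : Lst X J.n} {gen : ℕ → Γ} {A : Subgroup Γ} (h : J.Model T gen A) : Cov h.M (J.el gen) [L0, L1, L2] R [nat_lit 2892, nat_lit 3180] :=
  cov_full (ctx h) n189

theorem cov188 {Γ X : Type*} [Group Γ] [MulAction Γ X] {T : Lst X J.n} {gen : ℕ → Γ} {A : Subgroup Γ} (h : J.Model T gen A) : Cov h.M (J.el gen) [L0, L1, L2] R [nat_lit 2892, nat_lit 828] :=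
  cov_full (ctx h) n188

theorem cov187 {Γ X : Type*} [Group Γ] [MulAction Γ X] {T : Lst X J.n} {gen : ℕ → Γ} {A : Subgroup Γ} (h : J.Model T gen A) : Cov h.M (J.el gen) [L0, L1, L2] R [nat_lit 2892, nat_lit 1032] :=
  cov_full (ctx h) n187

theorem cov186 {Γ X : Type*} [Group Γ] [MulAction Γ X] {T : Lst X J.n} {gen : ℕ → Γ} {A : Subgroup Γ} (h : J.Model T gen A) : Cov h.M (J.el gen) [L0, L1, L2] R [nat_lit 2892, nat_lit 984] :=
  cov_full (ctx h) n186

theorem cov185 {Γ X : Type*} [Group Γ] [MulAction Γ X] {T : Lst X J.n} {gen : ℕ → Γ} {A : Subgroup Γ} (h : J.Model T gen A) : Cov h.M (J.el gen) [L0, L1, L2] R [nat_lit 2892, nat_lit 540] :=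
  cov_full (ctx h) n185

theorem cov184 {Γ X : Type*} [Group Γ] [MulAction Γ X] {T : Lst X J.n} {gen : ℕ → Γ} {A : Subgroup Γ} (h : J.Model T gen A) : Cov h.M (J.el gen) [L0, L1, L2] R [nat_lit 2892, nat_lit 1188] :=
  cov_full (ctx h) n184

theorem cov183 {Γ X : Type*} [Group Γ] [MulAction Γ X] {T : Lst X J.n} {gen : ℕ → Γ} {A : Subgroup Γ} (h : J.Model T gen A) : Cov h.M (J.el gen) [L0, L1, L2] R [nat_lit 2892, nat_lit 480] :=
  cov_full (ctx h) n183

theorem cov182 {Γ X : Type*} [Group Γ] [MulAction Γ X] {T : Lst X J.n} {gen : ℕ → Γ} {A : Subgroup Γ} (h : J.Model T gen A) : Cov h.M (J.el gen) [L0, L1, L2] R [nat_lit 2892, nat_lit 708] :=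
  cov_full (ctx h) n182

theorem cov181 {Γ X : Type*} [Group Γ] [MulAction Γ X] {T : Lst X J.n} {gen : ℕ → Γ} {A : Subgroup Γ} (h : J.Model T gen A) : Cov h.M (J.el gen) [L0, L1, L2] R [nat_lit 2892, nat_lit 1152] :=
  cov_full (ctx h) n181

theorem cov180 {Γ X : Type*} [Group Γ] [MulAction Γ X] {T : Lst X J.n} {gen : ℕ → Γ} {A : Subgroup Γ} (h : J.Model T gen A) : Cov h.M (J.el gen) [L0, L1, L2] R [nat_lit 2892, nat_lit 2016] :=
  cov_full (ctx h) n180

theorem cov179 {Γ X : Type*} [Group Γ] [MulAction Γ X] {T : Lst X J.n} {gen : ℕ → Γ} {A : Subgroup Γ} (h : J.Model T gen A) : Cov h.M (J.el gen) [L0, L1, L2] R [nat_lit 2892, nat_lit 792] :=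
  cov_full (ctx h) n179

theorem cov178 {Γ X : Type*} [Group Γ] [MulAction Γ X] {T : Lst X J.n} {gen : ℕ → Γ} {A : Subgroup Γ} (h : J.Model T gen A) : Cov h.M (J.el gen) [L0, L1, L2] R [nat_lit 2892, nat_lit 252] :=
  cov_full (ctx h) n178

theorem cov177 {Γ X : Type*} [Group Γ] [MulAction Γ X] {T : Lst X J.n} {gen : ℕ → Γ} {A : Subgroup Γ} (h : J.Model T gen A) : Cov h.M (J.el gen) [L0, L1, L2] R [nat_lit 2892, nat_lit 240] :=
  cov_full (ctx h) n177

theorem cov176 {Γ X : Type*} [Group Γ] [MulAction Γ X] {T : Lst X J.n} {gen : ℕ → Γ} {A : Subgroup Γ} (h : J.Model T gen A) : Cov h.M (J.el gen) [L0, L1, L2] R [nat_lit 2892, nat_lit 1260] :=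
  cov_full (ctx h) n176

theorem cov175 {Γ X : Type*} [Group Γ] [MulAction Γ X] {T : Lst X J.n} {gen : ℕ → Γ} {A : Subgroup Γ} (h : J.Model T gen A) : Cov h.M (J.el gen) [L0, L1, L2] R [nat_lit 2892, nat_lit 168] :=
  cov_full (ctx h) n175

theorem cov174 {Γ X : Type*} [Group Γ] [MulAction Γ X] {T : Lst X J.n} {gen : ℕ → Γ} {A : Subgroup Γ} (h : J.Model T gen A) : Cov h.M (J.el gen) [L0, L1, L2] R [nat_lit 2892, nat_lit 108] :=
  cov_full (ctx h) n174

theorem cov173 {Γ X : Type*} [Group Γ] [MulAction Γ X] {T : Lst X J.n} {gen : ℕ → Γ} {A : Subgroup Γ} (h : J.Model T gen A) : Cov h.M (J.el gen) [L0, L1, L2] R [nat_lit 2892, nat_lit 780] :=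
  cov_full (ctx h) n173

theorem cov172 {Γ X : Type*} [Group Γ] [MulAction Γ X] {T : Lst X J.n} {gen : ℕ → Γ} {A : Subgroup Γ} (h : J.Model T gen A) : Cov h.M (J.el gen) [L0, L1, L2] R [nat_lit 2892, nat_lit 972] :=
  cov_full (ctx h) n172

theorem cov171 {Γ X : Type*} [Group Γ] [MulAction Γ X] {T : Lst X J.n} {gen : ℕ → Γ} {A : Subgroup Γ} (h : J.Model T gen A) : Cov h.M (J.el gen) [L0, L1, L2] R [nat_lit 2892, nat_lit 1740] :=
  cov_full (ctx h) n171

theorem cov170 {Γ X : Type*} [Group Γ] [MulAction Γ X] {T : Lst X J.n} {gen : ℕ → Γ} {A : Subgroup Γ} (h : J.Model T gen A) : Cov h.M (J.el gen) [L0, L1, L2] R [nat_lit 2892] :=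
  cov_red (ctx h) h.hAV n170 (forall_mem_cons' (cov171 h) (forall_mem_cons' (cov172 h) (forall_mem_cons' (cov173 h) (forall_mem_cons' (cov174 h) (forall_mem_cons' (cov175 h) (forall_mem_cons' (cov176 h) (forall_mem_cons' (cov177 h) (forall_mem_cons' (cov178 h) (forall_mem_cons' (cov179 h) (forall_mem_cons' (cov180 h) (forall_mem_cons' (cov181 h) (forall_mem_cons' (cov182 h) (forall_mem_cons' (cov183 h) (forall_mem_cons' (cov184 h) (forall_mem_cons' (cov185 h) (forall_mem_cons' (cov186 h) (forall_mem_cons' (cov187 h) (forall_mem_cons' (cov188 h) (forall_mem_cons' (cov189 h) (forall_mem_cons' (cov190 h) (forall_mem_cons' (cov191 h) (forall_mem_cons' (cov192 h) (forall_mem_cons' (cov193 h) (forall_mem_cons' (cov194 h) (forall_mem_cons' (cov195 h) forall_mem_nil')))))))))))))))))))))))))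

theorem cov169 {Γ X : Type*} [Group Γ] [MulAction Γ X] {T : Lst X J.n} {gen : ℕ → Γ} {A : Subgroup Γ} (h : J.Model T gen A) : Cov h.M (J.el gen) [L0, L1, L2] R [nat_lit 1692, nat_lit 3744] :=
  cov_full (ctx h) n169

theorem cov168 {Γ X : Type*} [Group Γ] [MulAction Γ X] {T : Lst X J.n} {gen : ℕ → Γ} {A : Subgroup Γ} (h : J.Model T gen A) : Cov h.M (J.el gen) [L0, L1, L2] R [nat_lit 1692, nat_lit 3732] :=
  cov_full (ctx h) n168

theorem cov167 {Γ X : Type*} [Group Γ] [MulAction Γ X] {T : Lst X J.n} {gen : ℕ → Γ} {A : Subgroup Γ} (h : J.Model T gen A) : Cov h.M (J.el gen) [L0, L1, L2] R [nat_lit 1692, nat_lit 2964] :=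
  cov_full (ctx h) n167

theorem cov166 {Γ X : Type*} [Group Γ] [MulAction Γ X] {T : Lst X J.n} {gen : ℕ → Γ} {A : Subgroup Γ} (h : J.Model T gen A) : Cov h.M (J.el gen) [L0, L1, L2] R [nat_lit 1692, nat_lit 2892] :=
  cov_full (ctx h) n166

theorem cov165 {Γ X : Type*} [Group Γ] [MulAction Γ X] {T : Lst X J.n} {gen : ℕ → Γ} {A : Subgroup Γ} (h : J.Model T gen A) : Cov h.M (J.el gen) [L0, L1, L2] R [nat_lit 1692, nat_lit 2760] :=
  cov_full (ctx h) n165

theorem cov164 {Γ X : Type*} [Group Γ] [MulAction Γ X] {T : Lst X J.n} {gen : ℕ → Γ} {A : Subgroup Γ} (h : J.Model T gen A) : Cov h.M (J.el gen) [L0, L1, L2] R [nat_lit 1692, nat_lit 1416] :=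
  cov_full (ctx h) n164

theorem cov163 {Γ X : Type*} [Group Γ] [MulAction Γ X] {T : Lst X J.n} {gen : ℕ → Γ} {A : Subgroup Γ} (h : J.Model T gen A) : Cov h.M (J.el gen) [L0, L1, L2] R [nat_lit 1692, nat_lit 1236] :=
  cov_full (ctx h) n163

theorem cov162 {Γ X : Type*} [Group Γ] [MulAction Γ X] {T : Lst X J.n} {gen : ℕ → Γ} {A : Subgroup Γ} (h : J.Model T gen A) : Cov h.M (J.el gen) [L0, L1, L2] R [nat_lit 1692, nat_lit 2340] :=
  cov_full (ctx h) n162

theorem cov161 {Γ X : Type*} [Group Γ] [MulAction Γ X] {T : Lst X J.n} {gen : ℕ → Γ} {A : Subgroup Γ} (h : J.Model T gen A) : Cov h.M (J.el gen) [L0, L1, L2] R [nat_lit 1692, nat_lit 1068] :=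
  cov_full (ctx h) n161

theorem cov160 {Γ X : Type*} [Group Γ] [MulAction Γ X] {T : Lst X J.n} {gen : ℕ → Γ} {A : Subgroup Γ} (h : J.Model T gen A) : Cov h.M (J.el gen) [L0, L1, L2] R [nat_lit 1692, nat_lit 648] :=
  cov_full (ctx h) n160

theorem cov159 {Γ X : Type*} [Group Γ] [MulAction Γ X] {T : Lst X J.n} {gen : ℕ → Γ} {A : Subgroup Γ} (h : J.Model T gen A) : Cov h.M (J.el gen) [L0, L1, L2] R [nat_lit 1692, nat_lit 1800] :=
  cov_full (ctx h) n159

theorem cov158 {Γ X : Type*} [Group Γ] [MulAction Γ X] {T : Lst X J.n} {gen : ℕ → Γ} {A : Subgroup Γ} (h : J.Model T gen A) : Cov h.M (J.el gen) [L0, L1, L2] R [nat_lit 1692, nat_lit 708] :=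
  cov_full (ctx h) n158

theorem cov157 {Γ X : Type*} [Group Γ] [MulAction Γ X] {T : Lst X J.n} {gen : ℕ → Γ} {A : Subgroup Γ} (h : J.Model T gen A) : Cov h.M (J.el gen) [L0, L1, L2] R [nat_lit 1692, nat_lit 432] :=
  cov_full (ctx h) n157

theorem cov156 {Γ X : Type*} [Group Γ] [MulAction Γ X] {T : Lst X J.n} {gen : ℕ → Γ} {A : Subgroup Γ} (h : J.Model T gen A) : Cov h.M (J.el gen) [L0, L1, L2] R [nat_lit 1692, nat_lit 420] :=
  cov_full (ctx h) n156

theorem cov155 {Γ X : Type*} [Group Γ] [MulAction Γ X] {T : Lst X J.n} {gen : ℕ → Γ} {A : Subgroup Γ} (h : J.Model T gen A) : Cov h.M (J.el gen) [L0, L1, L2] R [nat_lit 1692, nat_lit 2376] :=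
  cov_full (ctx h) n155

theorem cov154 {Γ X : Type*} [Group Γ] [MulAction Γ X] {T : Lst X J.n} {gen : ℕ → Γ} {A : Subgroup Γ} (h : J.Model T gen A) : Cov h.M (J.el gen) [L0, L1, L2] R [nat_lit 1692, nat_lit 372] :=
  cov_full (ctx h) n154

theorem cov153 {Γ X : Type*} [Group Γ] [MulAction Γ X] {T : Lst X J.n} {gen : ℕ → Γ} {A : Subgroup Γ} (h : J.Model T gen A) : Cov h.M (J.el gen) [L0, L1, L2] R [nat_lit 1692, nat_lit 792] :=
  cov_full (ctx h) n153

theorem cov152 {Γ X : Type*} [Group Γ] [MulAction Γ X] {T : Lst X J.n} {gen : ℕ → Γ} {A : Subgroup Γ} (h : J.Model T gen A) : Cov h.M (J.el gen) [L0, L1, L2] R [nat_lit 1692, nat_lit 312] :=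
  cov_full (ctx h) n152

theorem cov151 {Γ X : Type*} [Group Γ] [MulAction Γ X] {T : Lst X J.n} {gen : ℕ → Γ} {A : Subgroup Γ} (h : J.Model T gen A) : Cov h.M (J.el gen) [L0, L1, L2] R [nat_lit 1692, nat_lit 1056] :=
  cov_full (ctx h) n151

theorem cov150 {Γ X : Type*} [Group Γ] [MulAction Γ X] {T : Lst X J.n} {gen : ℕ → Γ} {A : Subgroup Γ} (h : J.Model T gen A) : Cov h.M (J.el gen) [L0, L1, L2] R [nat_lit 1692, nat_lit 252] :=
  cov_full (ctx h) n150

theorem cov149 {Γ X : Type*} [Group Γ] [MulAction Γ X] {T : Lst X J.n} {gen : ℕ → Γ} {A : Subgroup Γ} (h : J.Model T gen A) : Cov h.M (J.el gen) [L0, L1, L2] R [nat_lit 1692, nat_lit 240] :=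
  cov_full (ctx h) n149

theorem cov148 {Γ X : Type*} [Group Γ] [MulAction Γ X] {T : Lst X J.n} {gen : ℕ → Γ} {A : Subgroup Γ} (h : J.Model T gen A) : Cov h.M (J.el gen) [L0, L1, L2] R [nat_lit 1692, nat_lit 1260] :=
  cov_full (ctx h) n148

theorem cov147 {Γ X : Type*} [Group Γ] [MulAction Γ X] {T : Lst X J.n} {gen : ℕ → Γ} {A : Subgroup Γ} (h : J.Model T gen A) : Cov h.M (J.el gen) [L0, L1, L2] R [nat_lit 1692, nat_lit 348] :=
  cov_full (ctx h) n147

theorem cov146 {Γ X : Type*} [Group Γ] [MulAction Γ X] {T : Lst X J.n} {gen : ℕ → Γ} {A : Subgroup Γ} (h : J.Model T gen A) : Cov h.M (J.el gen) [L0, L1, L2] R [nat_lit 1692, nat_lit 84] :=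
  cov_full (ctx h) n146

theorem cov145 {Γ X : Type*} [Group Γ] [MulAction Γ X] {T : Lst X J.n} {gen : ℕ → Γ} {A : Subgroup Γ} (h : J.Model T gen A) : Cov h.M (J.el gen) [L0, L1, L2] R [nat_lit 1692, nat_lit 1380] :=
  cov_full (ctx h) n145

theorem cov144 {Γ X : Type*} [Group Γ] [MulAction Γ X] {T : Lst X J.n} {gen : ℕ → Γ} {A : Subgroup Γ} (h : J.Model T gen A) : Cov h.M (J.el gen) [L0, L1, L2] R [nat_lit 1692] :=
  cov_red (ctx h) h.hAV n144 (forall_mem_cons' (cov145 h) (forall_mem_cons' (cov146 h) (forall_mem_cons' (cov147 h) (forall_mem_cons' (cov148 h) (forall_mem_cons' (cov149 h) (forall_mem_cons' (cov150 h) (forall_mem_cons' (cov151 h) (forall_mem_cons' (cov152 h) (forall_mem_cons' (cov153 h) (forall_mem_cons' (cov154 h) (forall_mem_cons' (cov155 h) (forall_mem_cons' (cov156 h) (forall_mem_cons' (cov157 h) (forall_mem_cons' (cov158 h) (forall_mem_cons' (cov159 h) (forall_mem_cons' (cov160 h) (forall_mem_cons'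 (cov161 h) (forall_mem_cons' (cov162 h) (forall_mem_cons' (cov163 h) (forall_mem_cons' (cov164 h) (forall_mem_cons' (cov165 h) (forall_mem_cons' (cov166 h) (forall_mem_cons' (cov167 h) (forall_mem_cons' (cov168 h) (forall_mem_cons' (cov169 h) forall_mem_nil')))))))))))))))))))))))))

theorem cov143 {Γ X : Type*} [Group Γ] [MulAction Γ X] {T : Lst X J.n} {gen : ℕ → Γ} {A : Subgroup Γ} (h : J.Model T gen A) : Cov h.M (J.el gen) [L0, L1, L2] R [nat_lit 2304, nat_lit 3696] :=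
  cov_full (ctx h) n143

theorem cov142 {Γ X : Type*} [Group Γ] [MulAction Γ X] {T : Lst X J.n} {gen : ℕ → Γ} {A : Subgroup Γ} (h : J.Model T gen A) : Cov h.M (J.el gen) [L0, L1, L2] R [nat_lit 2304, nat_lit 3636] :=
  cov_full (ctx h) n142

theorem cov141 {Γ X : Type*} [Group Γ] [MulAction Γ X] {T : Lst X J.n} {gen : ℕ → Γ} {A : Subgroup Γ} (h : J.Model T gen A) : Cov h.M (J.el gen) [L0, L1, L2] R [nat_lit 2304, nat_lit 2892] :=
  cov_full (ctx h) n141

theorem cov140 {Γ X : Type*} [Group Γ] [MulAction Γ X] {T : Lst X J.n} {gen : ℕ → Γ} {A : Subgroup Γ} (h : J.Model T gen A) : Cov h.M (J.el gen) [L0, L1, L2] R [nat_lit 2304, nat_lit 3264] :=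
  cov_full (ctx h) n140

theorem cov139 {Γ X : Type*} [Group Γ] [MulAction Γ X] {T : Lst X J.n} {gen : ℕ → Γ} {A : Subgroup Γ} (h : J.Model T gen A) : Cov h.M (J.el gen) [L0, L1, L2] R [nat_lit 2304, nat_lit 2004] :=
  cov_full (ctx h) n139

theorem cov138 {Γ X : Type*} [Group Γ] [MulAction Γ X] {T : Lst X J.n} {gen : ℕ → Γ} {A : Subgroup Γ} (h : J.Model T gen A) : Cov h.M (J.el gen) [L0, L1, L2] R [nat_lit 2304, nat_lit 1884] :=
  cov_full (ctx h) n138

theorem cov137 {Γ X : Type*} [Group Γ] [MulAction Γ X] {T : Lst X J.n} {gen : ℕ → Γ} {A : Subgroup Γ} (h : J.Model T gen A) : Cov h.M (J.el gen) [L0, L1, L2] R [nat_lit 2304, nat_lit 2064] :=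
  cov_full (ctx h) n137

theorem cov136 {Γ X : Type*} [Group Γ] [MulAction Γ X] {T : Lst X J.n} {gen : ℕ → Γ} {A : Subgroup Γ} (h : J.Model T gen A) : Cov h.M (J.el gen) [L0, L1, L2] R [nat_lit 2304, nat_lit 840] :=
  cov_full (ctx h) n136

theorem cov135 {Γ X : Type*} [Group Γ] [MulAction Γ X] {T : Lst X J.n} {gen : ℕ → Γ} {A : Subgroup Γ} (h : J.Model T gen A) : Cov h.M (J.el gen) [L0, L1, L2] R [nat_lit 2304, nat_lit 3552] :=
  cov_full (ctx h) n135

theorem cov134 {Γ X : Type*} [Group Γ] [MulAction Γ X] {T : Lst X J.n} {gen : ℕ → Γ} {A : Subgroup Γ} (h : J.Model T gen A) : Cov h.M (J.el gen) [L0, L1, L2] R [nat_lit 2304, nat_lit 672] :=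
  cov_full (ctx h) n134

theorem cov133 {Γ X : Type*} [Group Γ] [MulAction Γ X] {T : Lst X J.n} {gen : ℕ → Γ} {A : Subgroup Γ} (h : J.Model T gen A) : Cov h.M (J.el gen) [L0, L1, L2] R [nat_lit 2304, nat_lit 648] :=
  cov_full (ctx h) n133

theorem cov132 {Γ X : Type*} [Group Γ] [MulAction Γ X] {T : Lst X J.n} {gen : ℕ → Γ} {A : Subgroup Γ} (h : J.Model T gen A) : Cov h.M (J.el gen) [L0, L1, L2] R [nat_lit 2304, nat_lit 2700] :=
  cov_full (ctx h) n132

theorem cov131 {Γ X : Type*} [Group Γ] [MulAction Γ X] {T : Lst X J.n} {gen : ℕ → Γ} {A : Subgroup Γ} (h : J.Model T gen A) : Cov h.M (J.el gen) [L0, L1, L2] R [nat_lit 2304, nat_lit 804] :=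
  cov_full (ctx h) n131

theorem cov130 {Γ X : Type*} [Group Γ] [MulAction Γ X] {T : Lst X J.n} {gen : ℕ → Γ} {A : Subgroup Γ} (h : J.Model T gen A) : Cov h.M (J.el gen) [L0, L1, L2] R [nat_lit 2304, nat_lit 480] :=
  cov_full (ctx h) n130

theorem cov129 {Γ X : Type*} [Group Γ] [MulAction Γ X] {T : Lst X J.n} {gen : ℕ → Γ} {A : Subgroup Γ} (h : J.Model T gen A) : Cov h.M (J.el gen) [L0, L1, L2] R [nat_lit 2304, nat_lit 1092] :=
  cov_full (ctx h) n129

theorem cov128 {Γ X : Type*} [Group Γ] [MulAction Γ X] {T : Lst X J.n} {gen : ℕ → Γ} {A : Subgroup Γ} (h : J.Model T gen A) : Cov h.M (J.el gen) [L0, L1, L2] R [nat_lit 2304, nat_lit 2040] :=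
  cov_full (ctx h) n128

theorem cov127 {Γ X : Type*} [Group Γ] [MulAction Γ X] {T : Lst X J.n} {gen : ℕ → Γ} {A : Subgroup Γ} (h : J.Model T gen A) : Cov h.M (J.el gen) [L0, L1, L2] R [nat_lit 2304, nat_lit 372] :=
  cov_full (ctx h) n127

theorem cov126 {Γ X : Type*} [Group Γ] [MulAction Γ X] {T : Lst X J.n} {gen : ℕ → Γ} {A : Subgroup Γ} (h : J.Model T gen A) : Cov h.M (J.el gen) [L0, L1, L2] R [nat_lit 2304, nat_lit 324] :=
  cov_full (ctx h) n126

theorem cov125 {Γ X : Type*} [Group Γ] [MulAction Γ X] {T : Lst X J.n} {gen : ℕ → Γ} {A : Subgroup Γ} (h : J.Model T gen A) : Cov h.M (J.el gen) [L0, L1, L2] R [nat_lit 2304, nat_lit 564] :=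
  cov_full (ctx h) n125

theorem cov124 {Γ X : Type*} [Group Γ] [MulAction Γ X] {T : Lst X J.n} {gen : ℕ → Γ} {A : Subgroup Γ} (h : J.Model T gen A) : Cov h.M (J.el gen) [L0, L1, L2] R [nat_lit 2304, nat_lit 1956] :=
  cov_full (ctx h) n124

theorem cov123 {Γ X : Type*} [Group Γ] [MulAction Γ X] {T : Lst X J.n} {gen : ℕ → Γ} {A : Subgroup Γ} (h : J.Model T gen A) : Cov h.M (J.el gen) [L0, L1, L2] R [nat_lit 2304, nat_lit 168] :=
  cov_full (ctx h) n123

theorem cov122 {Γ X : Type*} [Group Γ] [MulAction Γ X] {T : Lst X J.n} {gen : ℕ → Γ} {A : Subgroup Γ} (h : J.Model T gen A) : Cov h.M (J.el gen) [L0, L1, L2] R [nat_lit 2304, nat_lit 1392] :=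
  cov_full (ctx h) n122

theorem cov121 {Γ X : Type*} [Group Γ] [MulAction Γ X] {T : Lst X J.n} {gen : ℕ → Γ} {A : Subgroup Γ} (h : J.Model T gen A) : Cov h.M (J.el gen) [L0, L1, L2] R [nat_lit 2304, nat_lit 96] :=
  cov_full (ctx h) n121

theorem cov120 {Γ X : Type*} [Group Γ] [MulAction Γ X] {T : Lst X J.n} {gen : ℕ → Γ} {A : Subgroup Γ} (h : J.Model T gen A) : Cov h.M (J.el gen) [L0, L1, L2] R [nat_lit 2304, nat_lit 1248] :=
  cov_full (ctx h) n120

theorem cov119 {Γ X : Type*} [Group Γ] [MulAction Γ X] {T : Lst X J.n} {gen : ℕ → Γ} {A : Subgroup Γ} (h : J.Model T gen A) : Cov h.M (J.el gen) [L0, L1, L2] R [nat_lit 2304, nat_lit 2940] :=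
  cov_full (ctx h) n119

theorem cov118 {Γ X : Type*} [Group Γ] [MulAction Γ X] {T : Lst X J.n} {gen : ℕ → Γ} {A : Subgroup Γ} (h : J.Model T gen A) : Cov h.M (J.el gen) [L0, L1, L2] R [nat_lit 2304] :=
  cov_red (ctx h) h.hAV n118 (forall_mem_cons' (cov119 h) (forall_mem_cons' (cov120 h) (forall_mem_cons' (cov121 h) (forall_mem_cons' (cov122 h) (forall_mem_cons' (cov123 h) (forall_mem_cons' (cov124 h) (forall_mem_cons' (cov125 h) (forall_mem_cons' (cov126 h) (forall_mem_cons' (cov127 h) (forall_mem_cons' (cov128 h) (forall_mem_cons' (cov129 h) (forall_mem_cons' (cov130 h) (forall_mem_cons' (cov131 h) (forall_mem_cons' (cov132 h) (forall_mem_cons' (cov133 h) (forall_mem_cons' (cov134 h) (forall_mem_cons' (cov135 h) (forall_mem_cons' (cov136 h) (forall_mem_cons' (cov137 h) (forall_mem_cons' (cov138 h) (forall_mem_cons' (cov139 h) (forall_mem_cons' (cov140 h) (forall_mem_cons' (cov141 h) (forall_mem_cons'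 (cov142 h) (forall_mem_cons' (cov143 h) forall_mem_nil')))))))))))))))))))))))))

theorem cov117 {Γ X : Type*} [Group Γ] [MulAction Γ X] {T : Lst X J.n} {gen : ℕ → Γ} {A : Subgroup Γ} (h : J.Model T gen A) : Cov h.M (J.el gen) [L0, L1, L2] R [nat_lit 2832, nat_lit 3744] :=
  cov_full (ctx h) n117

theorem cov116 {Γ X : Type*} [Group Γ] [MulAction Γ X] {T : Lst X J.n} {gen : ℕ → Γ} {A : Subgroup Γ} (h : J.Model T gen A) : Cov h.M (J.el gen) [L0, L1, L2] R [nat_lit 2832, nat_lit 3732] :=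
  cov_full (ctx h) n116

theorem cov115 {Γ X : Type*} [Group Γ] [MulAction Γ X] {T : Lst X J.n} {gen : ℕ → Γ} {A : Subgroup Γ} (h : J.Model T gen A) : Cov h.M (J.el gen) [L0, L1, L2] R [nat_lit 2832, nat_lit 3636] :=
  cov_full (ctx h) n115

theorem cov114 {Γ X : Type*} [Group Γ] [MulAction Γ X] {T : Lst X J.n} {gen : ℕ → Γ} {A : Subgroup Γ} (h : J.Model T gen A) : Cov h.M (J.el gen) [L0, L1, L2] R [nat_lit 2832, nat_lit 3552] :=
  cov_full (ctx h) n114

theorem cov113 {Γ X : Type*} [Group Γ] [MulAction Γ X] {T : Lst X J.n} {gen : ℕ → Γ} {A : Subgroup Γ} (h : J.Model T gen A) : Cov h.M (J.el gen) [L0, L1, L2] R [nat_lit 2832, nat_lit 3444] :=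
  cov_full (ctx h) n113

theorem cov112 {Γ X : Type*} [Group Γ] [MulAction Γ X] {T : Lst X J.n} {gen : ℕ → Γ} {A : Subgroup Γ} (h : J.Model T gen A) : Cov h.M (J.el gen) [L0, L1, L2] R [nat_lit 2832, nat_lit 3288] :=
  cov_full (ctx h) n112

theorem cov111 {Γ X : Type*} [Group Γ] [MulAction Γ X] {T : Lst X J.n} {gen : ℕ → Γ} {A : Subgroup Γ} (h : J.Model T gen A) : Cov h.M (J.el gen) [L0, L1, L2] R [nat_lit 2832, nat_lit 3108] :=
  cov_full (ctx h) n111

theorem cov110 {Γ X : Type*} [Group Γ] [MulAction Γ X] {T : Lst X J.n} {gen : ℕ → Γ} {A : Subgroup Γ} (h : J.Model T gen A) : Cov h.M (J.el gen) [L0, L1, L2] R [nat_lit 2832, nat_lit 3036] :=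
  cov_full (ctx h) n110

theorem cov109 {Γ X : Type*} [Group Γ] [MulAction Γ X] {T : Lst X J.n} {gen : ℕ → Γ} {A : Subgroup Γ} (h : J.Model T gen A) : Cov h.M (J.el gen) [L0, L1, L2] R [nat_lit 2832, nat_lit 2928] :=
  cov_full (ctx h) n109

theorem cov108 {Γ X : Type*} [Group Γ] [MulAction Γ X] {T : Lst X J.n} {gen : ℕ → Γ} {A : Subgroup Γ} (h : J.Model T gen A) : Cov h.M (J.el gen) [L0, L1, L2] R [nat_lit 2832, nat_lit 2892] :=
  cov_full (ctx h) n108

theorem cov107 {Γ X : Type*} [Group Γ] [MulAction Γ X] {T : Lst X J.n} {gen : ℕ → Γ} {A : Subgroup Γ} (h : J.Model T gen A) : Cov h.M (J.el gen) [L0, L1, L2] R [nat_lit 2832, nat_lit 2808] :=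
  cov_full (ctx h) n107

theorem cov106 {Γ X : Type*} [Group Γ] [MulAction Γ X] {T : Lst X J.n} {gen : ℕ → Γ} {A : Subgroup Γ} (h : J.Model T gen A) : Cov h.M (J.el gen) [L0, L1, L2] R [nat_lit 2832, nat_lit 2592] :=
  cov_full (ctx h) n106

theorem cov105 {Γ X : Type*} [Group Γ] [MulAction Γ X] {T : Lst X J.n} {gen : ℕ → Γ} {A : Subgroup Γ} (h : J.Model T gen A) : Cov h.M (J.el gen) [L0, L1, L2] R [nat_lit 2832, nat_lit 2460] :=
  cov_full (ctx h) n105

theorem cov104 {Γ X : Type*} [Group Γ] [MulAction Γ X] {T : Lst X J.n} {gen : ℕ → Γ} {A : Subgroup Γ} (h : J.Model T gen A) : Cov h.M (J.el gen) [L0, L1, L2] R [nat_lit 2832, nat_lit 2268] :=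
  cov_full (ctx h) n104

theorem cov103 {Γ X : Type*} [Group Γ] [MulAction Γ X] {T : Lst X J.n} {gen : ℕ → Γ} {A : Subgroup Γ} (h : J.Model T gen A) : Cov h.M (J.el gen) [L0, L1, L2] R [nat_lit 2832, nat_lit 2256] :=
  cov_full (ctx h) n103

theorem cov102 {Γ X : Type*} [Group Γ] [MulAction Γ X] {T : Lst X J.n} {gen : ℕ → Γ} {A : Subgroup Γ} (h : J.Model T gen A) : Cov h.M (J.el gen) [L0, L1, L2] R [nat_lit 2832, nat_lit 2208] :=
  cov_full (ctx h) n102

theorem cov101 {Γ X : Type*} [Group Γ] [MulAction Γ X] {T : Lst X J.n} {gen : ℕ → Γ} {A : Subgroup Γ} (h : J.Model T gen A) : Cov h.M (J.el gen) [L0, L1, L2] R [nat_lit 2832, nat_lit 2700] :=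
  cov_full (ctx h) n101

theorem cov100 {Γ X : Type*} [Group Γ] [MulAction Γ X] {T : Lst X J.n} {gen : ℕ → Γ} {A : Subgroup Γ} (h : J.Model T gen A) : Cov h.M (J.el gen) [L0, L1, L2] R [nat_lit 2832, nat_lit 1956] :=
  cov_full (ctx h) n100

theorem cov99 {Γ X : Type*} [Group Γ] [MulAction Γ X] {T : Lst X J.n} {gen : ℕ → Γ} {A : Subgroup Γ} (h : J.Model T gen A) : Cov h.M (J.el gen) [L0, L1, L2] R [nat_lit 2832, nat_lit 3060] :=
  cov_full (ctx h) n99

theorem cov98 {Γ X : Type*} [Group Γ] [MulAction Γ X] {T : Lst X J.n} {gen : ℕ → Γ} {A : Subgroup Γ} (h : J.Model T gen A) : Cov h.M (J.el gen) [L0, L1, L2] R [nat_lit 2832, nat_lit 3768] :=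
  cov_full (ctx h) n98

theorem cov97 {Γ X : Type*} [Group Γ] [MulAction Γ X] {T : Lst X J.n} {gen : ℕ → Γ} {A : Subgroup Γ} (h : J.Model T gen A) : Cov h.M (J.el gen) [L0, L1, L2] R [nat_lit 2832, nat_lit 1920] :=
  cov_full (ctx h) n97

theorem cov96 {Γ X : Type*} [Group Γ] [MulAction Γ X] {T : Lst X J.n} {gen : ℕ → Γ} {A : Subgroup Γ} (h : J.Model T gen A) : Cov h.M (J.el gen) [L0, L1, L2] R [nat_lit 2832, nat_lit 3024] :=
  cov_full (ctx h) n96

theorem cov95 {Γ X : Type*} [Group Γ] [MulAction Γ X] {T : Lst X J.n} {gen : ℕ → Γ} {A : Subgroup Γ} (h : J.Model T gen A) : Cov h.M (J.el gen) [L0, L1, L2] R [nat_lit 2832, nat_lit 1692] :=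
  cov_full (ctx h) n95

theorem cov94 {Γ X : Type*} [Group Γ] [MulAction Γ X] {T : Lst X J.n} {gen : ℕ → Γ} {A : Subgroup Γ} (h : J.Model T gen A) : Cov h.M (J.el gen) [L0, L1, L2] R [nat_lit 2832, nat_lit 1680] :=
  cov_full (ctx h) n94

theorem cov93 {Γ X : Type*} [Group Γ] [MulAction Γ X] {T : Lst X J.n} {gen : ℕ → Γ} {A : Subgroup Γ} (h : J.Model T gen A) : Cov h.M (J.el gen) [L0, L1, L2] R [nat_lit 2832, nat_lit 1596] :=
  cov_full (ctx h) n93

theorem cov92 {Γ X : Type*} [Group Γ] [MulAction Γ X] {T : Lst X J.n} {gen : ℕ → Γ} {A : Subgroup Γ} (h : J.Model T gen A) : Cov h.M (J.el gen) [L0, L1, L2] R [nat_lit 2832, nat_lit 1560] :=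
  cov_full (ctx h) n92

theorem cov91 {Γ X : Type*} [Group Γ] [MulAction Γ X] {T : Lst X J.n} {gen : ℕ → Γ} {A : Subgroup Γ} (h : J.Model T gen A) : Cov h.M (J.el gen) [L0, L1, L2] R [nat_lit 2832, nat_lit 1404] :=
  cov_full (ctx h) n91

theorem cov90 {Γ X : Type*} [Group Γ] [MulAction Γ X] {T : Lst X J.n} {gen : ℕ → Γ} {A : Subgroup Γ} (h : J.Model T gen A) : Cov h.M (J.el gen) [L0, L1, L2] R [nat_lit 2832, nat_lit 1236] :=
  cov_full (ctx h) n90

theorem cov89 {Γ X : Type*} [Group Γ] [MulAction Γ X] {T : Lst X J.n} {gen : ℕ → Γ} {A : Subgroup Γ} (h : J.Model T gen A) : Cov h.M (J.el gen) [L0, L1, L2] R [nat_lit 2832, nat_lit 1212] :=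
  cov_full (ctx h) n89

theorem cov88 {Γ X : Type*} [Group Γ] [MulAction Γ X] {T : Lst X J.n} {gen : ℕ → Γ} {A : Subgroup Γ} (h : J.Model T gen A) : Cov h.M (J.el gen) [L0, L1, L2] R [nat_lit 2832, nat_lit 996] :=
  cov_full (ctx h) n88

theorem cov87 {Γ X : Type*} [Group Γ] [MulAction Γ X] {T : Lst X J.n} {gen : ℕ → Γ} {A : Subgroup Γ} (h : J.Model T gen A) : Cov h.M (J.el gen) [L0, L1, L2] R [nat_lit 2832, nat_lit 984] :=
  cov_full (ctx h) n87

theorem cov86 {Γ X : Type*} [Group Γ] [MulAction Γ X] {T : Lst X J.n} {gen : ℕ → Γ} {A : Subgroup Γ} (h : J.Model T gen A) : Cov h.M (J.el gen) [L0, L1, L2] R [nat_lit 2832, nat_lit 2064] :=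
  cov_full (ctx h) n86

theorem cov85 {Γ X : Type*} [Group Γ] [MulAction Γ X] {T : Lst X J.n} {gen : ℕ → Γ} {A : Subgroup Γ} (h : J.Model T gen A) : Cov h.M (J.el gen) [L0, L1, L2] R [nat_lit 2832, nat_lit 2844] :=
  cov_full (ctx h) n85

theorem cov84 {Γ X : Type*} [Group Γ] [MulAction Γ X] {T : Lst X J.n} {gen : ℕ → Γ} {A : Subgroup Γ} (h : J.Model T gen A) : Cov h.M (J.el gen) [L0, L1, L2] R [nat_lit 2832, nat_lit 3012] :=
  cov_full (ctx h) n84

theorem cov83 {Γ X : Type*} [Group Γ] [MulAction Γ X] {T : Lst X J.n} {gen : ℕ → Γ} {A : Subgroup Γ} (h : J.Model T gen A) : Cov h.M (J.el gen) [L0, L1, L2] R [nat_lit 2832, nat_lit 1068] :=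
  cov_full (ctx h) n83

theorem cov82 {Γ X : Type*} [Group Γ] [MulAction Γ X] {T : Lst X J.n} {gen : ℕ → Γ} {A : Subgroup Γ} (h : J.Model T gen A) : Cov h.M (J.el gen) [L0, L1, L2] R [nat_lit 2832, nat_lit 780] :=
  cov_full (ctx h) n82

theorem cov81 {Γ X : Type*} [Group Γ] [MulAction Γ X] {T : Lst X J.n} {gen : ℕ → Γ} {A : Subgroup Γ} (h : J.Model T gen A) : Cov h.M (J.el gen) [L0, L1, L2] R [nat_lit 2832, nat_lit 1752] :=
  cov_full (ctx h) n81

theorem cov80 {Γ X : Type*} [Group Γ] [MulAction Γ X] {T : Lst X J.n} {gen : ℕ → Γ} {A : Subgroup Γ} (h : J.Model T gen A) : Cov h.M (J.el gen) [L0, L1, L2] R [nat_lit 2832, nat_lit 1080] :=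
  cov_full (ctx h) n80

theorem cov79 {Γ X : Type*} [Group Γ] [MulAction Γ X] {T : Lst X J.n} {gen : ℕ → Γ} {A : Subgroup Γ} (h : J.Model T gen A) : Cov h.M (J.el gen) [L0, L1, L2] R [nat_lit 2832, nat_lit 1464] :=
  cov_full (ctx h) n79

theorem cov78 {Γ X : Type*} [Group Γ] [MulAction Γ X] {T : Lst X J.n} {gen : ℕ → Γ} {A : Subgroup Γ} (h : J.Model T gen A) : Cov h.M (J.el gen) [L0, L1, L2] R [nat_lit 2832, nat_lit 600] :=
  cov_full (ctx h) n78

theorem cov77 {Γ X : Type*} [Group Γ] [MulAction Γ X] {T : Lst X J.n} {gen : ℕ → Γ} {A : Subgroup Γ} (h : J.Model T gen A) : Cov h.M (J.el gen) [L0, L1, L2] R [nat_lit 2832, nat_lit 540] :=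
  cov_full (ctx h) n77

theorem cov76 {Γ X : Type*} [Group Γ] [MulAction Γ X] {T : Lst X J.n} {gen : ℕ → Γ} {A : Subgroup Γ} (h : J.Model T gen A) : Cov h.M (J.el gen) [L0, L1, L2] R [nat_lit 2832, nat_lit 528] :=
  cov_full (ctx h) n76

theorem cov75 {Γ X : Type*} [Group Γ] [MulAction Γ X] {T : Lst X J.n} {gen : ℕ → Γ} {A : Subgroup Γ} (h : J.Model T gen A) : Cov h.M (J.el gen) [L0, L1, L2] R [nat_lit 2832, nat_lit 492] :=
  cov_full (ctx h) n75

theorem cov74 {Γ X : Type*} [Group Γ] [MulAction Γ X] {T : Lst X J.n} {gen : ℕ → Γ} {A : Subgroup Γ} (h : J.Model T gen A) : Cov h.M (J.el gen) [L0, L1, L2] R [nat_lit 2832, nat_lit 2124] :=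
  cov_full (ctx h) n74

theorem cov73 {Γ X : Type*} [Group Γ] [MulAction Γ X] {T : Lst X J.n} {gen : ℕ → Γ} {A : Subgroup Γ} (h : J.Model T gen A) : Cov h.M (J.el gen) [L0, L1, L2] R [nat_lit 2832, nat_lit 1500] :=
  cov_full (ctx h) n73

theorem cov72 {Γ X : Type*} [Group Γ] [MulAction Γ X] {T : Lst X J.n} {gen : ℕ → Γ} {A : Subgroup Γ} (h : J.Model T gen A) : Cov h.M (J.el gen) [L0, L1, L2] R [nat_lit 2832, nat_lit 444] :=
  cov_full (ctx h) n72

theorem cov71 {Γ X : Type*} [Group Γ] [MulAction Γ X] {T : Lst X J.n} {gen : ℕ → Γ} {A : Subgroup Γ} (h : J.Model T gen A) : Cov h.M (J.el gen) [L0, L1, L2] R [nat_lit 2832, nat_lit 1152] :=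
  cov_full (ctx h) n71

theorem cov70 {Γ X : Type*} [Group Γ] [MulAction Γ X] {T : Lst X J.n} {gen : ℕ → Γ} {A : Subgroup Γ} (h : J.Model T gen A) : Cov h.M (J.el gen) [L0, L1, L2] R [nat_lit 2832, nat_lit 1992] :=
  cov_full (ctx h) n70

theorem cov69 {Γ X : Type*} [Group Γ] [MulAction Γ X] {T : Lst X J.n} {gen : ℕ → Γ} {A : Subgroup Γ} (h : J.Model T gen A) : Cov h.M (J.el gen) [L0, L1, L2] R [nat_lit 2832, nat_lit 384] :=
  cov_full (ctx h) n69

theorem cov68 {Γ X : Type*} [Group Γ] [MulAction Γ X] {T : Lst X J.n} {gen : ℕ → Γ} {A : Subgroup Γ} (h : J.Model T gen A) : Cov h.M (J.el gen) [L0, L1, L2] R [nat_lit 2832, nat_lit 372] :=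
  cov_full (ctx h) n68

theorem cov67 {Γ X : Type*} [Group Γ] [MulAction Γ X] {T : Lst X J.n} {gen : ℕ → Γ} {A : Subgroup Γ} (h : J.Model T gen A) : Cov h.M (J.el gen) [L0, L1, L2] R [nat_lit 2832, nat_lit 360] :=
  cov_full (ctx h) n67

theorem cov66 {Γ X : Type*} [Group Γ] [MulAction Γ X] {T : Lst X J.n} {gen : ℕ → Γ} {A : Subgroup Γ} (h : J.Model T gen A) : Cov h.M (J.el gen) [L0, L1, L2] R [nat_lit 2832, nat_lit 312] :=
  cov_full (ctx h) n66

theorem cov65 {Γ X : Type*} [Group Γ] [MulAction Γ X] {T : Lst X J.n} {gen : ℕ → Γ} {A : Subgroup Γ} (h : J.Model T gen A) : Cov h.M (J.el gen) [L0, L1, L2] R [nat_lit 2832, nat_lit 240] :=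
  cov_full (ctx h) n65

theorem cov64 {Γ X : Type*} [Group Γ] [MulAction Γ X] {T : Lst X J.n} {gen : ℕ → Γ} {A : Subgroup Γ} (h : J.Model T gen A) : Cov h.M (J.el gen) [L0, L1, L2] R [nat_lit 2832, nat_lit 228] :=
  cov_full (ctx h) n64

theorem cov63 {Γ X : Type*} [Group Γ] [MulAction Γ X] {T : Lst X J.n} {gen : ℕ → Γ} {A : Subgroup Γ} (h : J.Model T gen A) : Cov h.M (J.el gen) [L0, L1, L2] R [nat_lit 2832, nat_lit 2388] :=
  cov_full (ctx h) n63

theorem cov62 {Γ X : Type*} [Group Γ] [MulAction Γ X] {T : Lst X J.n} {gen : ℕ → Γ} {A : Subgroup Γ} (h : J.Model T gen A) : Cov h.M (J.el gen) [L0, L1, L2] R [nat_lit 2832, nat_lit 204] :=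
  cov_full (ctx h) n62

theorem cov61 {Γ X : Type*} [Group Γ] [MulAction Γ X] {T : Lst X J.n} {gen : ℕ → Γ} {A : Subgroup Γ} (h : J.Model T gen A) : Cov h.M (J.el gen) [L0, L1, L2] R [nat_lit 2832, nat_lit 156] :=
  cov_full (ctx h) n61

theorem cov60 {Γ X : Type*} [Group Γ] [MulAction Γ X] {T : Lst X J.n} {gen : ℕ → Γ} {A : Subgroup Γ} (h : J.Model T gen A) : Cov h.M (J.el gen) [L0, L1, L2] R [nat_lit 2832, nat_lit 144] :=
  cov_full (ctx h) n60

theorem cov59 {Γ X : Type*} [Group Γ] [MulAction Γ X] {T : Lst X J.n} {gen : ℕ → Γ} {A : Subgroup Γ} (h : J.Model T gen A) : Cov h.M (J.el gen) [L0, L1, L2] R [nat_lit 2832, nat_lit 1008] :=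
  cov_full (ctx h) n59

theorem cov58 {Γ X : Type*} [Group Γ] [MulAction Γ X] {T : Lst X J.n} {gen : ℕ → Γ} {A : Subgroup Γ} (h : J.Model T gen A) : Cov h.M (J.el gen) [L0, L1, L2] R [nat_lit 2832, nat_lit 732] :=
  cov_full (ctx h) n58

theorem cov57 {Γ X : Type*} [Group Γ] [MulAction Γ X] {T : Lst X J.n} {gen : ℕ → Γ} {A : Subgroup Γ} (h : J.Model T gen A) : Cov h.M (J.el gen) [L0, L1, L2] R [nat_lit 2832, nat_lit 84] :=
  cov_full (ctx h) n57

theorem cov56 {Γ X : Type*} [Group Γ] [MulAction Γ X] {T : Lst X J.n} {gen : ℕ → Γ} {A : Subgroup Γ} (h : J.Model T gen A) : Cov h.M (J.el gen) [L0, L1, L2] R [nat_lit 2832, nat_lit 60] :=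
  cov_full (ctx h) n56

theorem cov55 {Γ X : Type*} [Group Γ] [MulAction Γ X] {T : Lst X J.n} {gen : ℕ → Γ} {A : Subgroup Γ} (h : J.Model T gen A) : Cov h.M (J.el gen) [L0, L1, L2] R [nat_lit 2832, nat_lit 36] :=
  cov_full (ctx h) n55

theorem cov54 {Γ X : Type*} [Group Γ] [MulAction Γ X] {T : Lst X J.n} {gen : ℕ → Γ} {A : Subgroup Γ} (h : J.Model T gen A) : Cov h.M (J.el gen) [L0, L1, L2] R [nat_lit 2832, nat_lit 12] :=
  cov_full (ctx h) n54

theorem cov53 {Γ X : Type*} [Group Γ] [MulAction Γ X] {T : Lst X J.n} {gen : ℕ → Γ} {A : Subgroup Γ} (h : J.Model T gen A) : Cov h.M (J.el gen) [L0, L1, L2] R [nat_lit 2832] :=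
  cov_red (ctx h) h.hAV n53 (forall_mem_cons' (cov54 h) (forall_mem_cons' (cov55 h) (forall_mem_cons' (cov56 h) (forall_mem_cons' (cov57 h) (forall_mem_cons' (cov58 h) (forall_mem_cons' (cov59 h) (forall_mem_cons' (cov60 h) (forall_mem_cons' (cov61 h) (forall_mem_cons' (cov62 h) (forall_mem_cons' (cov63 h) (forall_mem_cons' (cov64 h) (forall_mem_cons' (cov65 h) (forall_mem_cons' (cov66 h) (forall_mem_cons' (cov67 h) (forall_mem_cons' (cov68 h) (forall_mem_cons' (cov69 h) (forall_mem_cons' (cov70 h) (forall_mem_cons' (cov71 h) (forall_mem_cons' (cov72 h) (forall_mem_cons' (cov73 h) (forall_mem_cons' (cov74 h) (forall_mem_cons' (cov75 h) (forall_mem_cons' (cov76 h) (forall_mem_cons' (cov77 h) (forall_mem_cons' (cov78 h) (forall_mem_cons' (cov79 h) (forall_mem_cons' (cov80 h) (forall_mem_cons' (cov81 h) (forall_mem_cons' (cov82 h) (forall_mem_cons' (cov83 h) (forall_mem_cons' (cov84 h) (forall_mem_cons' (cov85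 h) (forall_mem_cons' (cov86 h) (forall_mem_cons' (cov87 h) (forall_mem_cons' (cov88 h) (forall_mem_cons' (cov89 h) (forall_mem_cons' (cov90 h) (forall_mem_cons' (cov91 h) (forall_mem_cons' (cov92 h) (forall_mem_cons' (cov93 h) (forall_mem_cons' (cov94 h) (forall_mem_cons' (cov95 h) (forall_mem_cons' (cov96 h) (forall_mem_cons' (cov97 h) (forall_mem_cons' (cov98 h) (forall_mem_cons' (cov99 h) (forall_mem_cons' (cov100 h) (forall_mem_cons' (cov101 h) (forall_mem_cons' (cov102 h) (forall_mem_cons' (cov103 h) (forall_mem_cons' (cov104 h) (forall_mem_cons' (cov105 h) (forall_mem_cons' (cov106 h) (forall_mem_cons' (cov107 h) (forall_mem_cons' (cov108 h) (forall_mem_cons' (cov109 h) (forall_mem_cons' (cov110 h) (forall_mem_cons' (cov111 h) (forall_mem_cons' (cov112 h) (forall_mem_cons' (cov113 h) (forall_mem_cons' (cov114 h) (forall_mem_cons' (cov115 h) (forall_mem_cons' (cov116 h) (forall_mem_cons' (cov117 h)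 forall_mem_nil'))))))))))))))))))))))))))))))))))))))))))))))))))))))))))))))))

theorem cov52 {Γ X : Type*} [Group Γ] [MulAction Γ X] {T : Lst X J.n} {gen : ℕ → Γ} {A : Subgroup Γ} (h : J.Model T gen A) : Cov h.M (J.el gen) [L0, L1, L2] R [nat_lit 48, nat_lit 3696] :=
  cov_full (ctx h) n52

theorem cov51 {Γ X : Type*} [Group Γ] [MulAction Γ X] {T : Lst X J.n} {gen : ℕ → Γ} {A : Subgroup Γ} (h : J.Model T gen A) : Cov h.M (J.el gen) [L0, L1, L2] R [nat_lit 48, nat_lit 3300] :=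
  cov_full (ctx h) n51

theorem cov50 {Γ X : Type*} [Group Γ] [MulAction Γ X] {T : Lst X J.n} {gen : ℕ → Γ} {A : Subgroup Γ} (h : J.Model T gen A) : Cov h.M (J.el gen) [L0, L1, L2] R [nat_lit 48, nat_lit 2964] :=
  cov_full (ctx h) n50

theorem cov49 {Γ X : Type*} [Group Γ] [MulAction Γ X] {T : Lst X J.n} {gen : ℕ → Γ} {A : Subgroup Γ} (h : J.Model T gen A) : Cov h.M (J.el gen) [L0, L1, L2] R [nat_lit 48, nat_lit 2928] :=
  cov_full (ctx h) n49

theorem cov48 {Γ X : Type*} [Group Γ] [MulAction Γ X] {T : Lst X J.n} {gen : ℕ → Γ} {A : Subgroup Γ} (h : J.Model T gen A) : Cov h.M (J.el gen) [L0, L1, L2] R [nat_lit 48, nat_lit 3360] :=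
  cov_full (ctx h) n48

theorem cov47 {Γ X : Type*} [Group Γ] [MulAction Γ X] {T : Lst X J.n} {gen : ℕ → Γ} {A : Subgroup Γ} (h : J.Model T gen A) : Cov h.M (J.el gen) [L0, L1, L2] R [nat_lit 48, nat_lit 2748] :=
  cov_full (ctx h) n47

theorem cov46 {Γ X : Type*} [Group Γ] [MulAction Γ X] {T : Lst X J.n} {gen : ℕ → Γ} {A : Subgroup Γ} (h : J.Model T gen A) : Cov h.M (J.el gen) [L0, L1, L2] R [nat_lit 48, nat_lit 2472] :=
  cov_full (ctx h) n46

theorem cov45 {Γ X : Type*} [Group Γ] [MulAction Γ X] {T : Lst X J.n} {gen : ℕ → Γ} {A : Subgroup Γ} (h : J.Model T gen A) : Cov h.M (J.el gen) [L0, L1, L2] R [nat_lit 48, nat_lit 1548] :=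
  cov_full (ctx h) n45

theorem cov44 {Γ X : Type*} [Group Γ] [MulAction Γ X] {T : Lst X J.n} {gen : ℕ → Γ} {A : Subgroup Γ} (h : J.Model T gen A) : Cov h.M (J.el gen) [L0, L1, L2] R [nat_lit 48, nat_lit 1236] :=
  cov_full (ctx h) n44

theorem cov43 {Γ X : Type*} [Group Γ] [MulAction Γ X] {T : Lst X J.n} {gen : ℕ → Γ} {A : Subgroup Γ} (h : J.Model T gen A) : Cov h.M (J.el gen) [L0, L1, L2] R [nat_lit 48, nat_lit 912] :=
  cov_full (ctx h) n43

theorem cov42 {Γ X : Type*} [Group Γ] [MulAction Γ X] {T : Lst X J.n} {gen : ℕ → Γ} {A : Subgroup Γ} (h : J.Model T gen A) : Cov h.M (J.el gen) [L0, L1, L2] R [nat_lit 48, nat_lit 1464] :=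
  cov_full (ctx h) n42

theorem cov41 {Γ X : Type*} [Group Γ] [MulAction Γ X] {T : Lst X J.n} {gen : ℕ → Γ} {A : Subgroup Γ} (h : J.Model T gen A) : Cov h.M (J.el gen) [L0, L1, L2] R [nat_lit 48, nat_lit 1800] :=
  cov_full (ctx h) n41

theorem cov40 {Γ X : Type*} [Group Γ] [MulAction Γ X] {T : Lst X J.n} {gen : ℕ → Γ} {A : Subgroup Γ} (h : J.Model T gen A) : Cov h.M (J.el gen) [L0, L1, L2] R [nat_lit 48, nat_lit 2700] :=
  cov_full (ctx h) n40

theorem cov39 {Γ X : Type*} [Group Γ] [MulAction Γ X] {T : Lst X J.n} {gen : ℕ → Γ} {A : Subgroup Γ} (h : J.Model T gen A) : Cov h.M (J.el gen) [L0, L1, L2] R [nat_lit 48, nat_lit 1092] :=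
  cov_full (ctx h) n39

theorem cov38 {Γ X : Type*} [Group Γ] [MulAction Γ X] {T : Lst X J.n} {gen : ℕ → Γ} {A : Subgroup Γ} (h : J.Model T gen A) : Cov h.M (J.el gen) [L0, L1, L2] R [nat_lit 48, nat_lit 2712] :=
  cov_full (ctx h) n38

theorem cov37 {Γ X : Type*} [Group Γ] [MulAction Γ X] {T : Lst X J.n} {gen : ℕ → Γ} {A : Subgroup Γ} (h : J.Model T gen A) : Cov h.M (J.el gen) [L0, L1, L2] R [nat_lit 48, nat_lit 2268] :=
  cov_full (ctx h) n37

theorem cov36 {Γ X : Type*} [Group Γ] [MulAction Γ X] {T : Lst X J.n} {gen : ℕ → Γ} {A : Subgroup Γ} (h : J.Model T gen A) : Cov h.M (J.el gen) [L0, L1, L2] R [nat_lit 48, nat_lit 2436] :=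
  cov_full (ctx h) n36

theorem cov35 {Γ X : Type*} [Group Γ] [MulAction Γ X] {T : Lst X J.n} {gen : ℕ → Γ} {A : Subgroup Γ} (h : J.Model T gen A) : Cov h.M (J.el gen) [L0, L1, L2] R [nat_lit 48, nat_lit 1920] :=
  cov_full (ctx h) n35

theorem cov34 {Γ X : Type*} [Group Γ] [MulAction Γ X] {T : Lst X J.n} {gen : ℕ → Γ} {A : Subgroup Γ} (h : J.Model T gen A) : Cov h.M (J.el gen) [L0, L1, L2] R [nat_lit 48, nat_lit 1104] :=
  cov_full (ctx h) n34

theorem cov33 {Γ X : Type*} [Group Γ] [MulAction Γ X] {T : Lst X J.n} {gen : ℕ → Γ} {A : Subgroup Γ} (h : J.Model T gen A) : Cov h.M (J.el gen) [L0, L1, L2] R [nat_lit 48, nat_lit 156] :=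
  cov_full (ctx h) n33

theorem cov32 {Γ X : Type*} [Group Γ] [MulAction Γ X] {T : Lst X J.n} {gen : ℕ → Γ} {A : Subgroup Γ} (h : J.Model T gen A) : Cov h.M (J.el gen) [L0, L1, L2] R [nat_lit 48, nat_lit 660] :=
  cov_full (ctx h) n32

theorem cov31 {Γ X : Type*} [Group Γ] [MulAction Γ X] {T : Lst X J.n} {gen : ℕ → Γ} {A : Subgroup Γ} (h : J.Model T gen A) : Cov h.M (J.el gen) [L0, L1, L2] R [nat_lit 48, nat_lit 60] :=
  cov_full (ctx h) n31

theorem cov30 {Γ X : Type*} [Group Γ] [MulAction Γ X] {T : Lst X J.n} {gen : ℕ → Γ} {A : Subgroup Γ} (h : J.Model T gen A) : Cov h.M (J.el gen) [L0, L1, L2] R [nat_lit 48, nat_lit 1572] :=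
  cov_full (ctx h) n30

theorem cov29 {Γ X : Type*} [Group Γ] [MulAction Γ X] {T : Lst X J.n} {gen : ℕ → Γ} {A : Subgroup Γ} (h : J.Model T gen A) : Cov h.M (J.el gen) [L0, L1, L2] R [nat_lit 48, nat_lit 12] :=
  cov_full (ctx h) n29

theorem cov28 {Γ X : Type*} [Group Γ] [MulAction Γ X] {T : Lst X J.n} {gen : ℕ → Γ} {A : Subgroup Γ} (h : J.Model T gen A) : Cov h.M (J.el gen) [L0, L1, L2] R [nat_lit 48, nat_lit 0] :=
  cov_full (ctx h) n28

theorem cov27 {Γ X : Type*} [Group Γ] [MulAction Γ X] {T : Lst X J.n} {gen : ℕ → Γ} {A : Subgroup Γ} (h : J.Model T gen A) : Cov h.M (J.el gen) [L0, L1, L2] R [nat_lit 48] :=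
  cov_red (ctx h) h.hAV n27 (forall_mem_cons' (cov28 h) (forall_mem_cons' (cov29 h) (forall_mem_cons' (cov30 h) (forall_mem_cons' (cov31 h) (forall_mem_cons' (cov32 h) (forall_mem_cons' (cov33 h) (forall_mem_cons' (cov34 h) (forall_mem_cons' (cov35 h) (forall_mem_cons' (cov36 h) (forall_mem_cons' (cov37 h) (forall_mem_cons' (cov38 h) (forall_mem_cons' (cov39 h) (forall_mem_cons' (cov40 h) (forall_mem_cons' (cov41 h) (forall_mem_cons' (cov42 h) (forall_mem_cons' (cov43 h) (forall_mem_cons' (cov44 h) (forall_mem_cons' (cov45 h) (forall_mem_cons' (cov46 h) (forall_mem_cons' (cov47 h) (forall_mem_cons' (cov48 h) (forall_mem_cons' (cov49 h) (forall_mem_cons' (cov50 h) (forall_mem_cons' (cov51 h) (forall_mem_cons' (cov52 h) forall_mem_nil')))))))))))))))))))))))))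

theorem cov26 {Γ X : Type*} [Group Γ] [MulAction Γ X] {T : Lst X J.n} {gen : ℕ → Γ} {A : Subgroup Γ} (h : J.Model T gen A) : Cov h.M (J.el gen) [L0, L1, L2] R [nat_lit 0, nat_lit 3744] :=
  cov_full (ctx h) n26

theorem cov25 {Γ X : Type*} [Group Γ] [MulAction Γ X] {T : Lst X J.n} {gen : ℕ → Γ} {A : Subgroup Γ} (h : J.Model T gen A) : Cov h.M (J.el gen) [L0, L1, L2] R [nat_lit 0, nat_lit 3324] :=
  cov_full (ctx h) n25

theorem cov24 {Γ X : Type*} [Group Γ] [MulAction Γ X] {T : Lst X J.n} {gen : ℕ → Γ} {A : Subgroup Γ} (h : J.Model T gen A) : Cov h.M (J.el gen) [L0, L1, L2] R [nat_lit 0, nat_lit 3480] :=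
  cov_full (ctx h) n24

theorem cov23 {Γ X : Type*} [Group Γ] [MulAction Γ X] {T : Lst X J.n} {gen : ℕ → Γ} {A : Subgroup Γ} (h : J.Model T gen A) : Cov h.M (J.el gen) [L0, L1, L2] R [nat_lit 0, nat_lit 2928] :=
  cov_full (ctx h) n23

theorem cov22 {Γ X : Type*} [Group Γ] [MulAction Γ X] {T : Lst X J.n} {gen : ℕ → Γ} {A : Subgroup Γ} (h : J.Model T gen A) : Cov h.M (J.el gen) [L0, L1, L2] R [nat_lit 0, nat_lit 3360] :=
  cov_full (ctx h) n22

theorem cov21 {Γ X : Type*} [Group Γ] [MulAction Γ X] {T : Lst X J.n} {gen : ℕ → Γ} {A : Subgroup Γ} (h : J.Model T gen A) : Cov h.M (J.el gen) [L0, L1, L2] R [nat_lit 0, nat_lit 2208] :=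
  cov_full (ctx h) n21

theorem cov20 {Γ X : Type*} [Group Γ] [MulAction Γ X] {T : Lst X J.n} {gen : ℕ → Γ} {A : Subgroup Γ} (h : J.Model T gen A) : Cov h.M (J.el gen) [L0, L1, L2] R [nat_lit 0, nat_lit 1884] :=
  cov_full (ctx h) n20

theorem cov19 {Γ X : Type*} [Group Γ] [MulAction Γ X] {T : Lst X J.n} {gen : ℕ → Γ} {A : Subgroup Γ} (h : J.Model T gen A) : Cov h.M (J.el gen) [L0, L1, L2] R [nat_lit 0, nat_lit 1560] :=
  cov_full (ctx h) n19

theorem cov18 {Γ X : Type*} [Group Γ] [MulAction Γ X] {T : Lst X J.n} {gen : ℕ → Γ} {A : Subgroup Γ} (h : J.Model T gen A) : Cov h.M (J.el gen) [L0, L1, L2] R [nat_lit 0, nat_lit 1548] :=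
  cov_full (ctx h) n18

theorem cov17 {Γ X : Type*} [Group Γ] [MulAction Γ X] {T : Lst X J.n} {gen : ℕ → Γ} {A : Subgroup Γ} (h : J.Model T gen A) : Cov h.M (J.el gen) [L0, L1, L2] R [nat_lit 0, nat_lit 2340] :=
  cov_full (ctx h) n17

theorem cov16 {Γ X : Type*} [Group Γ] [MulAction Γ X] {T : Lst X J.n} {gen : ℕ → Γ} {A : Subgroup Γ} (h : J.Model T gen A) : Cov h.M (J.el gen) [L0, L1, L2] R [nat_lit 0, nat_lit 948] :=
  cov_full (ctx h) n16

theorem cov15 {Γ X : Type*} [Group Γ] [MulAction Γ X] {T : Lst X J.n} {gen : ℕ → Γ} {A : Subgroup Γ} (h : J.Model T gen A) : Cov h.M (J.el gen) [L0, L1, L2] R [nat_lit 0, nat_lit 1824] :=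
  cov_full (ctx h) n15

theorem cov14 {Γ X : Type*} [Group Γ] [MulAction Γ X] {T : Lst X J.n} {gen : ℕ → Γ} {A : Subgroup Γ} (h : J.Model T gen A) : Cov h.M (J.el gen) [L0, L1, L2] R [nat_lit 0, nat_lit 1800] :=
  cov_full (ctx h) n14

theorem cov13 {Γ X : Type*} [Group Γ] [MulAction Γ X] {T : Lst X J.n} {gen : ℕ → Γ} {A : Subgroup Γ} (h : J.Model T gen A) : Cov h.M (J.el gen) [L0, L1, L2] R [nat_lit 0, nat_lit 2100] :=
  cov_full (ctx h) n13

theorem cov12 {Γ X : Type*} [Group Γ] [MulAction Γ X] {T : Lst X J.n} {gen : ℕ → Γ} {A : Subgroup Γ} (h : J.Model T gen A) : Cov h.M (J.el gen) [L0, L1, L2] R [nat_lit 0, nat_lit 2952] :=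
  cov_full (ctx h) n12

theorem cov11 {Γ X : Type*} [Group Γ] [MulAction Γ X] {T : Lst X J.n} {gen : ℕ → Γ} {A : Subgroup Γ} (h : J.Model T gen A) : Cov h.M (J.el gen) [L0, L1, L2] R [nat_lit 0, nat_lit 768] :=
  cov_full (ctx h) n11

theorem cov10 {Γ X : Type*} [Group Γ] [MulAction Γ X] {T : Lst X J.n} {gen : ℕ → Γ} {A : Subgroup Γ} (h : J.Model T gen A) : Cov h.M (J.el gen) [L0, L1, L2] R [nat_lit 0, nat_lit 2268] :=
  cov_full (ctx h) n10

theorem cov9 {Γ X : Type*} [Group Γ] [MulAction Γ X] {T : Lst X J.n} {gen : ℕ → Γ} {A : Subgroup Γ} (h : J.Model T gen A) : Cov h.M (J.el gen) [L0, L1, L2] R [nat_lit 0, nat_lit 1116] :=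
  cov_full (ctx h) n9

theorem cov8 {Γ X : Type*} [Group Γ] [MulAction Γ X] {T : Lst X J.n} {gen : ℕ → Γ} {A : Subgroup Γ} (h : J.Model T gen A) : Cov h.M (J.el gen) [L0, L1, L2] R [nat_lit 0, nat_lit 564] :=
  cov_full (ctx h) n8

theorem cov7 {Γ X : Type*} [Group Γ] [MulAction Γ X] {T : Lst X J.n} {gen : ℕ → Γ} {A : Subgroup Γ} (h : J.Model T gen A) : Cov h.M (J.el gen) [L0, L1, L2] R [nat_lit 0, nat_lit 144] :=
  cov_full (ctx h) n7

theorem cov6 {Γ X : Type*} [Group Γ] [MulAction Γ X] {T : Lst X J.n} {gen : ℕ → Γ} {A : Subgroup Γ} (h : J.Model T gen A) : Cov h.M (J.el gen) [L0, L1, L2] R [nat_lit 0, nat_lit 720] :=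
  cov_full (ctx h) n6

theorem cov5 {Γ X : Type*} [Group Γ] [MulAction Γ X] {T : Lst X J.n} {gen : ℕ → Γ} {A : Subgroup Γ} (h : J.Model T gen A) : Cov h.M (J.el gen) [L0, L1, L2] R [nat_lit 0, nat_lit 300] :=
  cov_full (ctx h) n5

theorem cov4 {Γ X : Type*} [Group Γ] [MulAction Γ X] {T : Lst X J.n} {gen : ℕ → Γ} {A : Subgroup Γ} (h : J.Model T gen A) : Cov h.M (J.el gen) [L0, L1, L2] R [nat_lit 0, nat_lit 48] :=
  cov_full (ctx h) n4

theorem cov3 {Γ X : Type*} [Group Γ] [MulAction Γ X] {T : Lst X J.n} {gen : ℕ → Γ} {A : Subgroup Γ} (h : J.Model T gen A) : Cov h.M (J.el gen) [L0, L1, L2] R [nat_lit 0, nat_lit 1632] :=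
  cov_full (ctx h) n3

theorem cov2 {Γ X : Type*} [Group Γ] [MulAction Γ X] {T : Lst X J.n} {gen : ℕ → Γ} {A : Subgroup Γ} (h : J.Model T gen A) : Cov h.M (J.el gen) [L0, L1, L2] R [nat_lit 0, nat_lit 12] :=
  cov_full (ctx h) n2

theorem cov1 {Γ X : Type*} [Group Γ] [MulAction Γ X] {T : Lst X J.n} {gen : ℕ → Γ} {A : Subgroup Γ} (h : J.Model T gen A) : Cov h.M (J.el gen) [L0, L1, L2] R [nat_lit 0] :=
  cov_red (ctx h) h.hAV n1 (forall_mem_cons' (cov2 h) (forall_mem_cons' (cov3 h) (forall_mem_cons' (cov4 h) (forall_mem_cons' (cov5 h) (forall_mem_cons' (cov6 h) (forall_mem_cons' (cov7 h) (forall_mem_cons' (cov8 h) (forall_mem_cons' (cov9 h) (forall_mem_cons' (cov10 h) (forall_mem_cons' (cov11 h) (forall_mem_cons' (cov12 h) (forall_mem_cons' (cov13 h) (forall_mem_cons' (cov14 h) (forall_mem_cons' (cov15 h) (forall_mem_cons' (cov16 h) (forall_mem_cons' (cov17 h) (forall_mem_cons' (cov18 h) (forall_mem_cons'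 (cov19 h) (forall_mem_cons' (cov20 h) (forall_mem_cons' (cov21 h) (forall_mem_cons' (cov22 h) (forall_mem_cons' (cov23 h) (forall_mem_cons' (cov24 h) (forall_mem_cons' (cov25 h) (forall_mem_cons' (cov26 h) forall_mem_nil')))))))))))))))))))))))))

theorem cov0 {Γ X : Type*} [Group Γ] [MulAction Γ X] {T : Lst X J.n} {gen : ℕ → Γ} {A : Subgroup Γ} (h : J.Model T gen A) : Cov h.M (J.el gen) [L0, L1, L2] R [] :=
  cov_red (ctx h) h.hAV n0 (forall_mem_cons' (cov1 h) (forall_mem_cons' (cov27 h) (forall_mem_cons' (cov53 h) (forall_mem_cons' (cov118 h) (forall_mem_cons' (cov144 h) (forall_mem_cons' (cov170 h) forall_mem_nil'))))))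

theorem classes {Γ X : Type*} [Group Γ] [MulAction Γ X] {T : Lst X J.n} {gen : ℕ → Γ} {A : Subgroup Γ} (h : J.Model T gen A) : ∀ g ∈ J.G gen, ∃ j, j < 21 ∧ ∃ c ∈ J.G gen, c * g = R.x (J.el gen) j * c := by
  rw [← GpL_eq]; exact (cov0 h).all

theorem ords {Γ X : Type*} [Group Γ] [MulAction Γ X] {T : Lst X J.n} {gen : ℕ → Γ} {A : Subgroup Γ} (h : J.Model T gen A) : ∀ j, j < 21 → orderOf (R.x (J.el gen) j) = nth os j :=
  specChk_ord (ctx h) sp

theorem spec {Γ X : Type*} [Group Γ] [MulAction Γ X] {T : Lst X J.n} {gen : ℕ → Γ} {A : Subgroup Γ} (h : J.Model T gen A) : Set.range (orderOf : J.G gen → ℕ) = {n | n ∈ [1, 2, 3, 4, 5, 6, 7, 8, 10, 12, 15]} := by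
  rw [← GpL_eq]; exact spec_of_chk (ctx h) (cov0 h) sp

end Cfsg.Agent.Comp.J2
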